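/-
Sums of characters over the `p`-regular part of the centraliser of a Sylow `p`-subgroup.

* `exists_pRegular_subgroup`: the normal `p`-complement of `C(P)`
* `memI_sub_apply_one_of_principal`: principal-block characters at elements with class size prime to `p`
* `memI_sum_of_not_principal`: the sum over that complement vanishes mod `M` outside the
  `p'`-degree part of the principal block
* `exists_principal_constituent`: induced characters have a `p'`-degree principal-block constituent
-/
import Cfsg.Agent.Lib.BrauerPairs.Basic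
import Cfsg.Agent.Lib.Blocks.CentralFun
import Cfsg.Agent.Lib.CentralChar.Gow
import Cfsg.Agent.Lib.Char.Induced
import Mathlib.GroupTheory.Transfer

set_option autoImplicit false

namespace Cfsg.Agent.SylowSum

open Cfsg Cfsg.Agent.Blocks
open scoped ComplexConjugate

variable {G : Type*} [Group G] [Finite G] {p : ℕ} [hp : Fact p.Prime]

/-- The `p`-regular elements of `C(P)` form a subgroup of order prime to `p`. -/
theorem exists_pRegular_subgroup (P : Sylow p G) :
    ∃ L : Subgroup G, L ≤ Subgroup.centralizer ((P : Subgroup G) : Set G) ∧ ¬ p ∣ Nat.card L ∧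
      (∀ g ∈ Subgroup.centralizer ((P : Subgroup G) : Set G), ¬ p ∣ orderOf g → g ∈ L) ∧
      ∀ g ∈ Subgroup.centralizer ((P : Subgroup G) : Set G), ∃ l ∈ L, ∃ k : ℕ, g ^ p ^ k = l ^ p ^ k := by
  classical
  let C : Subgroup G := Subgroup.centralizer ((P : Subgroup G) : Set G)
  let Z : Subgroup C := Subgroup.center C
  have hr : ¬ p ∣ Z.index := by
    let Q : Sylow p C := default
    have hQ : (Q : Subgroup C) ≤ Z := by
      intro x hx
      have hQP : IsPGroup p ((Q : Subgroup C).map C.subtype ⊔ (P : Subgroup G) : Subgroup G) :=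
        (Q.isPGroup'.map C.subtype).to_sup_of_normal_right' P.isPGroup' (by
          intro y hy
          obtain ⟨q, -, rfl⟩ := Subgroup.mem_map.mp hy
          exact Subgroup.centralizer_le_normalizer _ q.2)
      have hxP : (x : G) ∈ (P : Subgroup G) := by
        rw [← P.is_maximal' hQP le_sup_right]
        exact Subgroup.mem_sup_left (Subgroup.mem_map_of_mem _ hx)
      rw [Subgroup.mem_center_iff]
      intro y
      exact Subtype.ext (Subgroup.mem_centralizer_iff.mp y.2 _ hxP).symm
    exact fun h => Q.not_dvd_index (h.trans (Subgroup.index_dvd_of_le hQ))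
  let c : ℕ := ordCompl[p] (Nat.card Z)
  have hc : ¬ p ∣ c := Nat.not_dvd_ordCompl hp.out Nat.card_pos.ne'
  let f : C →* Z := MonoidHom.mk' (fun x => MonoidHom.transferCenterPow C x ^ c) fun x y => by
    rw [map_mul]
    refine Commute.mul_pow ?_ c
    exact Subtype.ext (Subgroup.mem_center_iff.mp (MonoidHom.transferCenterPow C y).2 _)
  have hker : ∀ x : C, x ∈ f.ker ↔ x ^ (Z.index * c) = 1 := fun x => by
    rw [MonoidHom.mem_ker, ← Subtype.coe_inj, pow_mul]
    rfl
  have hregC : ∀ x : C, ¬ p ∣ orderOf x → x ∈ f.ker := by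
    intro x hx
    rw [hker, pow_mul]
    set z : Z := MonoidHom.transferCenterPow C x
    have hzv : (z : C) = x ^ Z.index := rfl
    have h1 : orderOf z ∣ orderOf x := by
      rw [← Subgroup.orderOf_coe z, hzv]
      exact orderOf_pow_dvd Z.index
    have h2 : orderOf z ∣ c := by
      have hcop : Nat.Coprime (orderOf z) (p ^ (Nat.card Z).factorization p) :=
        Nat.Coprime.pow_right _
          ((hp.out.coprime_iff_not_dvd.mpr fun h => hx (h.trans h1)).symm)
      refine hcop.dvd_of_dvd_mul_left ?_
      rw [Nat.ordProj_mul_ordCompl_eq_self]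
      exact orderOf_dvd_natCard z
    rw [← hzv, ← SubmonoidClass.coe_pow, orderOf_dvd_iff_pow_eq_one.mp h2, OneMemClass.coe_one]
  refine ⟨f.ker.map C.subtype, Subgroup.map_subtype_le _, ?_, ?_, ?_⟩
  · rw [Subgroup.card_map_of_injective C.subtype_injective]
    intro hd
    obtain ⟨x, hx⟩ := exists_prime_orderOf_dvd_card' p hd
    have h1 : orderOf (x : C) ∣ Z.index * c := orderOf_dvd_of_pow_eq_one ((hker x).mp x.2)
    rw [Subgroup.orderOf_coe, hx] at h1
    exact (hp.out.dvd_mul.mp h1).elim hr hc
  · intro g hg ho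
    exact ⟨⟨g, hg⟩, hregC _ (by rwa [← Subgroup.orderOf_coe]), rfl⟩
  · intro g hg
    set a := (orderOf g).factorization p
    set m := ordCompl[p] (orderOf g) with hmdef
    have hm : ¬ p ∣ m := Nat.not_dvd_ordCompl hp.out (orderOf_pos g).ne'
    have hn : p ^ a * m = orderOf g := Nat.ordProj_mul_ordCompl_eq_self _ p
    obtain ⟨t, ht⟩ : ∃ t : ℕ, p ^ a * t ≡ 1 [MOD m] := by
      rcases eq_or_ne m 1 with h | h
      · exact ⟨0, by rw [h]; exact Nat.modEq_one⟩
      · have h1 : 1 < m :=
          lt_of_le_of_ne (Nat.pos_of_ne_zero fun h0 => hm (h0 ▸ dvd_zero p)) (Ne.symm h)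
        obtain ⟨t, -, ht⟩ := Nat.exists_mul_mod_eq_one_of_coprime
          (Nat.Coprime.pow_left a (hp.out.coprime_iff_not_dvd.mpr hm)) h1
        exact ⟨t, ht.trans (Nat.mod_eq_of_lt h1).symm⟩
    have hlm : (g ^ (p ^ a * t)) ^ m = 1 := by
      rw [← pow_mul, mul_right_comm, hn, pow_mul, pow_orderOf_eq_one, one_pow]
    refine ⟨g ^ (p ^ a * t), ⟨⟨_, C.pow_mem hg _⟩, hregC _ ?_, rfl⟩, a, ?_⟩
    · rw [← Subgroup.orderOf_coe]
      exact fun h => hm (h.trans (orderOf_dvd_of_pow_eq_one hlm))
    · rw [← pow_mul, pow_eq_pow_iff_modEq, ← hn]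
      have h1 := (Nat.ModEq.mul_left' (p ^ a) ht).symm
      rw [mul_one] at h1
      calc p ^ a ≡ p ^ a * (p ^ a * t) [MOD p ^ a * m] := h1
        _ = p ^ a * t * p ^ a := by ring

variable {M : Ideal AlgInt}

/-- A class whose size is prime to `p` sees only the degree in the principal block. -/
theorem memI_sub_apply_one_of_principal (hM : IsPModular p M) {χ : IrrCharacter G}
    (hχ : χ ∈ principalBlock M G) {g : G}
    (hg : ¬ p ∣ (Subgroup.centralizer ({g} : Set G)).index) :
    MemLocalIdeal M ((χ : G → ℂ) g - (χ : G → ℂ) 1) := by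
  obtain ⟨d, hd, hd1⟩ := Char.IsIrrCharacter.exists_degree χ.2
  have h : MemLocalIdeal M (centralChar (fun _ : G => (1 : ℂ)) g - centralChar (χ : G → ℂ) g) :=
    hχ g
  have h2 := memI_mul_left hM
    (memR_mul hM (memR_natCast hM d) (memR_natCast_inv hM hg)) (memI_sub_comm h)
  refine (congrArg (MemLocalIdeal M) ?_).mp h2
  have hd0 : (d : ℂ) ≠ 0 := Nat.cast_ne_zero.mpr hd.ne'
  have hk : ((Subgroup.centralizer ({g} : Set G)).index : ℂ) ≠ 0 :=
    Nat.cast_ne_zero.mpr (Subgroup.index_ne_zero_of_finite)
  simp only [centralChar, hd1]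
  field_simp

theorem not_dvd_index_centralizer (P : Sylow p G) {g : G}
    (hg : g ∈ Subgroup.centralizer ((P : Subgroup G) : Set G)) :
    ¬ p ∣ (Subgroup.centralizer ({g} : Set G)).index := by
  refine fun h => P.not_dvd_index (h.trans (Subgroup.index_dvd_of_le fun x hx => ?_))
  exact Subgroup.mem_centralizer_singleton_iff.mpr (Subgroup.mem_centralizer_iff.mp hg x hx)

/-- `|K|` and `|K ∩ C(P)|` agree mod `M`. -/
theorem memI_index_sub_card_fixed [Fintype G] (hM : IsPModular p M) {Q : Subgroup G}
    (hQ : IsPGroup p Q) (g : G) [DecidablePred (IsConj g)]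
    [DecidablePred fun x => x ∈ Subgroup.centralizer (Q : Set G)] :
    MemLocalIdeal M (((Subgroup.centralizer ({g} : Set G)).index : ℂ) -
      ∑ x ∈ Finset.univ.filter (fun x => x ∈ Subgroup.centralizer (Q : Set G)),
        if IsConj g x then (1 : ℂ) else 0) := by
  classical
  have h := BrauerPairs.sum_sub_sum_centralizer hM hQ (fun x => if IsConj g x then (1 : ℂ) else 0)
    (fun u _ x => by
      have hc : IsConj x (u * x * u⁻¹) := isConj_iff.mpr ⟨u, rfl⟩
      exact if_congr ⟨fun h => h.trans hc.symm, fun h => h.trans hc⟩ rfl rfl)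
    (fun x => by split_ifs; exacts [memR_one hM, memR_zero hM])
  convert h using 2
  · rw [Finset.sum_boole, ← CentralChar.card_class_eq_index]
    congr 2
    ext x
    simp
  · congr 1
    ext x
    simp

/-- Outside the `p'`-degree part of the principal block, sums over the `p`-regular part of `C(P)`
vanish mod `M`. -/
theorem memI_sum_of_not_principal (hM : IsPModular p M) (P : Sylow p G) (L : Subgroup G) [Fintype L]
    (hLC : L ≤ Subgroup.centralizer ((P : Subgroup G) : Set G)) (hLp : ¬ p ∣ Nat.card L)
    (hL : ∀ g ∈ Subgroup.centralizer ((P : Subgroup G) : Set G), ¬ p ∣ orderOf g → g ∈ L)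
    (hdec : ∀ g ∈ Subgroup.centralizer ((P : Subgroup G) : Set G), ∃ l ∈ L, ∃ k : ℕ, g ^ p ^ k = l ^ p ^ k)
    (χ : IrrCharacter G)
    (h : χ ∉ principalBlock M G ∨ p ∣ charDegree (χ : G → ℂ)) :
    MemLocalIdeal M (∑ l : L, (χ : G → ℂ) l) := by
  classical
  haveI := Fintype.ofFinite G
  obtain ⟨χf, d, ρ, hi, rfl⟩ := χ
  simp only at h ⊢
  have hd1 : ρ.character 1 = (d : ℂ) := by rw [Representation.char_one, Module.finrank_fin_fun]
  have hint : ∀ x, IsIntegral ℤ (ρ.character x) := fun x =>
    Char.IsCharacter.isIntegral (Char.isCharacter_character ρ) x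
  have hdeg : charDegree (ρ.character) = d := by simp [charDegree, hd1]
  rw [hdeg] at h
  by_cases hpd : p ∣ d
  · refine memI_sum hM _ fun l _ => ?_
    have hk := not_dvd_index_centralizer P (hLC l.2)
    have hw := Blocks.isIntegral_centralChar (⟨_, d, ρ, hi, rfl⟩ : IrrCharacter G) (l : G)
    have hd0 : (d : ℂ) ≠ 0 := by
      obtain ⟨e, he, he1⟩ := Char.IsIrrCharacter.exists_degree
        (show IsIrrCharacter G ρ.character from ⟨d, ρ, hi, rfl⟩)
      rw [← hd1, he1]
      exact Nat.cast_ne_zero.mpr he.ne'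
    have h1 := memI_mul_right hM ((memI_natCast hM).mpr hpd)
      (memR_mul hM (memR_natCast_inv hM hk) (memR_of_isIntegral hM hw))
    refine (congrArg (MemLocalIdeal M) ?_).mp h1
    have hk0 : ((Subgroup.centralizer ({(l : G)} : Set G)).index : ℂ) ≠ 0 :=
      Nat.cast_ne_zero.mpr (Subgroup.index_ne_zero_of_finite)
    simp only [centralChar, hd1]
    field_simp
  · have hnot : (⟨ρ.character, d, ρ, hi, rfl⟩ : IrrCharacter G) ∉ principalBlock M G :=
      h.resolve_right hpd
    have hinvd : MemLocalRing M (d : ℂ)⁻¹ := memR_natCast_inv hM hpd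
    have hd0 : (d : ℂ) ≠ 0 := Nat.cast_ne_zero.mpr fun h0 => hpd (h0 ▸ dvd_zero p)
    obtain ⟨l, hl⟩ : ∃ l : L, ¬ MemLocalIdeal M (ρ.character l - (d : ℂ)) := by
      by_contra hh
      push Not at hh
      apply hnot
      intro g
      have hval : MemLocalIdeal M (((Subgroup.centralizer ({g} : Set G)).index : ℂ) *
          (ρ.character g * (d : ℂ)⁻¹ - 1)) := by
        by_cases hC : ∃ x ∈ Subgroup.centralizer ((P : Subgroup G) : Set G), IsConj g x
        · obtain ⟨x, hx, hgx⟩ := hC
          refine memI_mul_left hM (memR_natCast hM _) ?_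
          obtain ⟨c, rfl⟩ := isConj_iff.mp hgx
          obtain ⟨l, hl, k, hk⟩ := hdec _ hx
          have h1 := memI_sub_trans hM
            (CentralChar.memI_sub_of_pow_eq hM (Char.isCharacter_character ρ) hk) (hh ⟨l, hl⟩)
          rw [Char.isClassFunction_character ρ g c] at h1
          have h2 := memI_mul_right hM h1 hinvd
          rwa [sub_mul, mul_inv_cancel₀ hd0] at h2
        · push Not at hC
          refine memI_mul_right hM ?_
            (memR_sub hM (memR_mul hM (memR_of_isIntegral hM (hint g)) hinvd) (memR_one hM))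
          have h1 := memI_index_sub_card_fixed hM P.isPGroup' g
          rw [Finset.sum_eq_zero (fun x hx => if_neg (hC x (Finset.mem_filter.mp hx).2)), sub_zero] at h1
          exact h1
      refine (congrArg (MemLocalIdeal M) ?_).mp (memI_neg hval)
      simp only [centralChar, hd1]
      ring
    set K := Finset.univ.filter (IsConj (l : G))
    have hcard : (K.card : ℂ) = ((Subgroup.centralizer ({(l : G)} : Set G)).index : ℂ) := by
      rw [CentralChar.card_class_eq_index]
    have hclass : ∀ y : G, ∑ x ∈ K, ρ.character (x * y) =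
        (K.card : ℂ) * ρ.character l * (d : ℂ)⁻¹ * ρ.character y := by
      intro y
      have h1 := congrArg (fun T : Module.End ℂ (Fin d → ℂ) => LinearMap.trace ℂ (Fin d → ℂ) (T * ρ y))
        (CentralChar.sum_class_eq_smul ρ (l : G))
      simp only [Finset.sum_mul, map_sum, smul_mul_assoc, one_mul, map_smul, smul_eq_mul,
        Module.finrank_fin_fun, ← map_mul] at h1
      rw [← div_eq_mul_inv]
      exact h1
    -- `x` ranges over the fixed points of `P` on the class
    set S : ℂ := ∑ y : L, ρ.character y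
    have hfix : ∀ y : L, MemLocalIdeal M ((∑ x ∈ K, ρ.character (x * y)) -
        ∑ x ∈ Finset.univ.filter (fun x => x ∈ Subgroup.centralizer ((P : Subgroup G) : Set G)),
          if IsConj (l : G) x then ρ.character (x * y) else 0) := by
      intro y
      rw [Finset.sum_filter]
      refine BrauerPairs.sum_sub_sum_centralizer hM P.isPGroup' _ (fun u hu x => ?_) fun x => ?_
      · have hc : IsConj x (u * x * u⁻¹) := isConj_iff.mpr ⟨u, rfl⟩
        refine if_congr ⟨fun h => h.trans hc.symm, fun h => h.trans hc⟩ ?_ rfl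
        have e : u * x * u⁻¹ * y = u * (x * y) * u⁻¹ := by
          have hy : u * (y : G) = (y : G) * u := Subgroup.mem_centralizer_iff.mp (hLC y.2) u hu
          calc u * x * u⁻¹ * y = u * x * u⁻¹ * ((y : G) * u) * u⁻¹ := by group
            _ = u * x * u⁻¹ * (u * y) * u⁻¹ := by rw [hy]
            _ = u * (x * y) * u⁻¹ := by group
        rw [e, Char.isClassFunction_character ρ]
      · split_ifs
        exacts [memR_of_isIntegral hM (hint _), memR_zero hM]
    have hA := memI_sum hM Finset.univ fun y (_ : y ∈ (Finset.univ : Finset L)) => hfix y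
    rw [Finset.sum_sub_distrib, Finset.sum_congr rfl fun (y : L) _ => hclass y, ← Finset.mul_sum,
      Finset.sum_comm] at hA
    have hB : ∀ x ∈ Finset.univ.filter (fun x => x ∈ Subgroup.centralizer ((P : Subgroup G) : Set G)),
        (∑ y : L, if IsConj (l : G) x then ρ.character (x * y) else 0) =
          (if IsConj (l : G) x then (1 : ℂ) else 0) * S := by
      intro x hx
      split_ifs with hlx
      · have hxL : x ∈ L := by
          refine hL x (Finset.mem_filter.mp hx).2 ?_
          obtain ⟨c, rfl⟩ := isConj_iff.mp hlx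
          have e : c * (l : G) * c⁻¹ = MulAut.conj c (l : G) := rfl
          rw [e, MulEquiv.orderOf_eq, Subgroup.orderOf_coe]
          exact fun h => hLp (h.trans (orderOf_dvd_natCard l))
        rw [one_mul]
        exact Fintype.sum_equiv (Equiv.mulLeft (⟨x, hxL⟩ : L)) _ _ fun y => rfl
      · simp
    rw [Finset.sum_congr rfl hB, ← Finset.sum_mul, hcard] at hA
    have h1 := memI_mul_right hM (memI_index_sub_card_fixed hM P.isPGroup' (l : G))
      (memR_sum hM Finset.univ fun y (_ : y ∈ (Finset.univ : Finset L)) =>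
        memR_of_isIntegral hM (hint y))
    have h2 : MemLocalIdeal M (((Subgroup.centralizer ({(l : G)} : Set G)).index : ℂ) *
        ((ρ.character l - (d : ℂ)) * (d : ℂ)⁻¹) * S) := by
      refine (congrArg (MemLocalIdeal M) ?_).mp (memI_sub hM hA h1)
      simp only [S]
      field_simp
      ring
    have hR1 : MemLocalRing M ((ρ.character l - (d : ℂ)) * (d : ℂ)⁻¹) :=
      memR_mul hM (memR_sub hM (memR_of_isIntegral hM (hint _)) (memR_natCast hM d)) hinvd
    have hSR : MemLocalRing M S :=
      memR_sum hM Finset.univ fun (y : L) _ => memR_of_isIntegral hM (hint y)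
    refine (memI_or_memI hM
      (memR_mul hM (memR_natCast hM (Subgroup.centralizer ({(l : G)} : Set G)).index) hR1)
      hSR h2).resolve_left fun h3 => ?_
    rcases memI_or_memI hM (memR_natCast hM _) hR1 h3 with h4 | h4
    · exact not_dvd_index_centralizer P (hLC l.2) ((memI_natCast hM).mp h4)
    · apply hl
      have h5 := memI_mul_right hM h4 (memR_natCast hM d)
      rwa [inv_mul_cancel_right₀ hd0] at h5

/-- If `η` is congruent to its `p'` degree on the `p`-regular elements of `H` centralising
`P ≤ H`, then `η^G` has a constituent of degree prime to `p` in the principal block. -/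
theorem exists_principal_constituent [Fintype G] (hM : IsPModular p M) (P : Sylow p G)
    (H : Subgroup G) [Fintype H] (hPH : (P : Subgroup G) ≤ H) {η : H → ℂ} (hη : IsCharacter H η)
    {d : ℕ} (hd : η 1 = d) (hpd : ¬ p ∣ d)
    (hcong : ∀ h : H, (h : G) ∈ Subgroup.centralizer ((P : Subgroup G) : Set G) → ¬ p ∣ orderOf (h : G) →
      MemLocalIdeal M (η h - d)) :
    ∃ χ : IrrCharacter G, χ ∈ principalBlock M G ∧ ¬ p ∣ charDegree (χ : G → ℂ) ∧
      classInner (indFun H η) (χ : G → ℂ) ≠ 0 := by
  classical
  haveI := Fintype.ofFinite (IrrCharacter G)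
  obtain ⟨L, hLC, hLp, hL, hdec⟩ := exists_pRegular_subgroup P
  haveI := Fintype.ofFinite L
  have hηint : ∀ h, IsIntegral ℤ (η h) := Char.IsCharacter.isIntegral hη
  let z : G → ℂ := fun g => if ∃ l ∈ L, IsConj l g then 1 else 0
  have hzconj : ∀ x y : G, IsConj x y → z x = z y := fun x y hxy =>
    if_congr ⟨fun ⟨l, hl, hlx⟩ => ⟨l, hl, hlx.trans hxy⟩,
      fun ⟨l, hl, hlx⟩ => ⟨l, hl, hlx.trans hxy.symm⟩⟩ rfl rfl
  have hz : IsClassFunction G z := fun g h => (hzconj _ _ (isConj_iff.mpr ⟨h, rfl⟩)).symm
  have hzR : ∀ g, MemLocalRing M (z g) := fun g => by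
    show MemLocalRing M (if _ then _ else _)
    split_ifs
    exacts [memR_one hM, memR_zero hM]
  have hzreal : ∀ g, conj (z g) = z g := fun g => by
    show conj (if _ then _ else _ : ℂ) = if _ then _ else _
    split_ifs <;> simp
  have hzC : ∀ x ∈ Subgroup.centralizer ((P : Subgroup G) : Set G), z x = if x ∈ L then 1 else 0 := by
    intro x hx
    refine if_congr ⟨?_, fun h => ⟨x, h, IsConj.refl x⟩⟩ rfl rfl
    rintro ⟨l, hl, hlx⟩
    refine hL x hx ?_
    obtain ⟨c, rfl⟩ := isConj_iff.mp hlx
    have e : c * l * c⁻¹ = MulAut.conj c l := rfl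
    rw [e, MulEquiv.orderOf_eq]
    exact fun h => hLp (h.trans (Subgroup.orderOf_dvd_natCard L hl))
  -- characters of `G` against `z`
  have hχz : ∀ χ : IrrCharacter G,
      MemLocalIdeal M ((∑ g, (χ : G → ℂ) g * z g) - ∑ l : L, (χ : G → ℂ) l) := by
    intro χ
    have h := BrauerPairs.sum_sub_sum_centralizer hM P.isPGroup' (fun g => (χ : G → ℂ) g * z g)
      (fun u _ x => by rw [Char.IsIrrCharacter.isClassFunction χ.2 x u, hz x u])
      (fun x => memR_mul hM
        (memR_of_isIntegral hM (Char.IsCharacter.isIntegral (Char.IsIrrCharacter.isCharacter χ.2) x))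
        (hzR x))
    refine (congrArg (MemLocalIdeal M) ?_).mp h
    congr 1
    rw [← Finset.sum_subtype (Finset.univ.filter (· ∈ L)) (by simp) (fun x => (χ : G → ℂ) x),
      Finset.sum_filter, Finset.sum_filter]
    refine Finset.sum_congr rfl fun x _ => ?_
    by_cases hx : x ∈ Subgroup.centralizer ((P : Subgroup G) : Set G)
    · rw [if_pos hx, hzC x hx, mul_ite, mul_one, mul_zero]
    · rw [if_neg hx, if_neg fun h => hx (hLC h)]
  -- `η` against `z`
  let P' : Subgroup H := (P : Subgroup G).subgroupOf H
  let Hreg : Finset H := Finset.univ.filter fun h => (h : G) ∈ L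
  have hcard : ¬ p ∣ Hreg.card := by
    have e : Hreg.card = Nat.card (L.subgroupOf H) := by
      rw [← Nat.card_eq_finsetCard]
      exact Nat.card_congr (Equiv.subtypeEquivRight fun h => by simp [Hreg, Subgroup.mem_subgroupOf])
    rw [e]
    refine fun h => hLp (h.trans ?_)
    exact Subgroup.card_dvd_of_injective (H.subtype.subgroupComap L)
      fun a b hab => Subtype.ext (Subtype.ext (congrArg Subtype.val hab :))
  have hmain : MemLocalIdeal M ((∑ h : H, η h * z h) - (Hreg.card : ℂ) * d) := by
    have hP' : IsPGroup p P' := P.isPGroup'.comap_subtype (K := H)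
    have h := BrauerPairs.sum_sub_sum_centralizer hM hP' (fun h : H => η h * z h)
      (fun u _ x => by
        rw [Char.IsCharacter.isClassFunction hη x u]
        exact congrArg (η x * ·) (hz (x : G) (u : G)))
      (fun x => memR_mul hM (memR_of_isIntegral hM (hηint x)) (hzR x))
    refine memI_sub_trans hM h ?_
    have hiff : ∀ x : H, x ∈ Subgroup.centralizer (P' : Set H) ↔
        (x : G) ∈ Subgroup.centralizer ((P : Subgroup G) : Set G) := fun x => by
      simp only [Subgroup.mem_centralizer_iff, SetLike.mem_coe]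
      exact ⟨fun h u hu => congrArg Subtype.val (h ⟨u, hPH hu⟩ hu),
        fun h u hu => Subtype.ext (h u hu)⟩
    rw [Finset.sum_filter, Finset.sum_congr rfl fun (x : H) _ => show
        (if x ∈ Subgroup.centralizer (P' : Set H) then η x * z x else 0) =
          if (x : G) ∈ L then η x else 0 by
      by_cases hx : (x : G) ∈ Subgroup.centralizer ((P : Subgroup G) : Set G)
      · rw [if_pos ((hiff x).mpr hx), hzC _ hx, mul_ite, mul_one, mul_zero]
      · rw [if_neg (fun h => hx ((hiff x).mp h)), if_neg fun h => hx (hLC h)],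
      ← Finset.sum_filter, ← nsmul_eq_mul, ← Finset.sum_const, ← Finset.sum_sub_distrib]
    refine memI_sum hM _ fun x hx => hcong x (hLC (Finset.mem_filter.mp hx).2) fun h => hLp ?_
    exact h.trans (Subgroup.orderOf_dvd_natCard L (Finset.mem_filter.mp hx).2)
  -- compare
  by_contra hcon
  push Not at hcon
  have hind : ∑ g, indFun H η g * z g = (H.index : ℂ) * ∑ h : H, η h * z h := by
    have h1 := congrArg (fun w : ℂ => (Nat.card G : ℂ) * w) (Char.frobenius_reciprocity H η hz)
    simp only [Char.card_mul_classInner, hzreal] at h1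
    rw [h1, classInner, ← H.index_mul_card, Nat.cast_mul]
    simp only [hzreal]
    field_simp
  obtain ⟨m, hm, hm'⟩ := Char.IsCharacter.decompose (Char.IsCharacter.indFun H hη)
  have hzero : MemLocalIdeal M (∑ g, indFun H η g * z g) := by
    rw [Finset.sum_congr rfl fun g _ => show indFun H η g * z g =
        ∑ χ : IrrCharacter G, (m χ : ℂ) * ((χ : G → ℂ) g * z g) by
      rw [congrFun hm g, Finset.sum_apply, Finset.sum_mul]
      exact Finset.sum_congr rfl fun χ _ => by rw [Pi.smul_apply, smul_eq_mul, mul_assoc],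
      Finset.sum_comm]
    refine memI_sum hM _ fun χ _ => ?_
    rw [← Finset.mul_sum]
    rcases eq_or_ne (m χ) 0 with h0 | h0
    · rw [h0, Nat.cast_zero, zero_mul]; exact memI_zero hM
    · refine memI_mul_left hM (memR_natCast hM _)
        ((memI_iff_of_sub hM (hχz χ)).mpr (memI_sum_of_not_principal hM P L hLC hLp hL hdec χ ?_))
      by_contra hh
      push Not at hh
      exact h0 (by exact_mod_cast (hm' χ).symm.trans (hcon χ hh.1 hh.2))
  rw [hind] at hzero
  have hidx : ¬ p ∣ H.index := fun h => P.not_dvd_index (h.trans (Subgroup.index_dvd_of_le hPH))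
  rcases memI_or_memI hM (memR_natCast hM _)
    (memR_sum hM _ fun x _ => memR_mul hM (memR_of_isIntegral hM (hηint x)) (hzR _)) hzero with h | h
  · exact hidx ((memI_natCast hM).mp h)
  · have h1 := (memI_iff_of_sub hM hmain).mp h
    rw [← Nat.cast_mul, memI_natCast hM] at h1
    exact (hp.out.dvd_mul.mp h1).elim hcard hpd

end Cfsg.Agent.SylowSum
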